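import Groth.Agent.ProjLib.IdealComap
import Mathlib

/-!
# A power of the ideal of the non-isomorphism locus lies in the conductor
-/

set_option autoImplicit false
set_option linter.style.haveILetI false

universe u

open CategoryTheory AlgebraicGeometry TopologicalSpace

namespace Groth.Agent.EGA3Amp7

/-- If every element of a finitely generated ideal pushes every element of a finite algebra into the
base after some power, so does a power of the ideal. -/
theorem exists_pow_mul_mem_range {A B : Type u} [CommRing A] [CommRing B] (φ : A →+* B) (hφ : φ.Finite)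
    (I : Ideal A) (hI : I.FG) (h : ∀ f ∈ I, ∀ b : B, ∃ k : ℕ, φ f ^ k * b ∈ φ.range) :
    ∃ N : ℕ, ∀ x ∈ I ^ N, ∀ b : B, φ x * b ∈ φ.range := by
  algebraize [φ]
  haveI : Module.Finite A B := hφ
  let R : Submodule A B := LinearMap.range (Algebra.linearMap A B)
  have hR : ∀ b : B, b ∈ R ↔ b ∈ φ.range := fun b => Iff.rfl
  have hrad : I ≤ (Module.annihilator A (B ⧸ R)).radical := fun f hf => by
    obtain ⟨S, hS⟩ := Module.Finite.fg_top (R := A) (M := B)
    choose k hk using fun b => h f hf b
    refine ⟨S.sup k, Module.mem_annihilator.2 fun q => ?_⟩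
    obtain ⟨b, rfl⟩ := Submodule.Quotient.mk_surjective R q
    rw [← Submodule.Quotient.mk_smul, Submodule.Quotient.mk_eq_zero]
    have hb : b ∈ Submodule.span A (S : Set B) := hS ▸ Submodule.mem_top
    induction hb using Submodule.span_induction with
    | mem b hb =>
      obtain ⟨c, hc⟩ := Nat.exists_eq_add_of_le (Finset.le_sup (f := k) (Finset.mem_coe.1 hb))
      rw [hc, pow_add, mul_comm, mul_smul]
      refine R.smul_mem _ ?_
      rw [Algebra.smul_def, map_pow]
      exact (hR _).2 (hk b)
    | zero => rw [smul_zero]; exact R.zero_mem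
    | add a b _ _ ha hb => rw [smul_add]; exact R.add_mem ha hb
    | smul a b _ hb => rw [smul_comm]; exact R.smul_mem _ hb
  obtain ⟨N, hN⟩ := Ideal.exists_pow_le_of_le_radical_of_fg hrad hI
  refine ⟨N, fun x hx b => (hR _).1 ?_⟩
  have h1 := Module.mem_annihilator.1 (hN hx) (Submodule.Quotient.mk b)
  rw [← Submodule.Quotient.mk_smul, Submodule.Quotient.mk_eq_zero, Algebra.smul_def] at h1
  exact h1

variable {X X1 : Scheme.{u}}

/-- Over an affine open, a power of the ideal of the complement of the isomorphism locus multiplies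
functions upstairs into functions downstairs. -/
theorem exists_conductor_pow [IsLocallyNoetherian X] (h : X1 ⟶ X) [IsFinite h] (W : X.Opens) [IsIso (h ∣_ W)]
    (Z : Closeds X) (hZ : (Z : Set X) = (W : Set X)ᶜ) {U : X.Opens} (hU : IsAffineOpen U) :
    ∃ N : ℕ, ∀ x ∈ ((Scheme.IdealSheafData.vanishingIdeal Z).ideal ⟨U, hU⟩) ^ N, ∀ b : Γ(X1, h ⁻¹ᵁ U),
      h.app U x * b ∈ (h.app U).hom.range := by
  haveI : IsNoetherianRing Γ(X, U) := IsLocallyNoetherian.component_noetherian ⟨U, hU⟩
  refine exists_pow_mul_mem_range (h.app U).hom (h.finite_app U hU) _ (IsNoetherian.noetherian _) fun f hf b => ?_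
  have hD : X.basicOpen f ≤ W := fun x hx => by
    by_contra hxW
    have hxZ : x ∈ (Scheme.IdealSheafData.vanishingIdeal Z).support := by
      rw [← SetLike.mem_coe, Scheme.IdealSheafData.coe_support_vanishingIdeal]
      exact hZ.ge hxW
    rw [Scheme.IdealSheafData.mem_support_iff_of_mem (U := ⟨U, hU⟩) (X.basicOpen_le f hx)] at hxZ
    exact (Scheme.mem_zeroLocus_iff _ _ _).1 hxZ f hf hx
  let D := X.basicOpen f
  have hbij : Function.Bijective (h.app D) := by
    have e : IsIso (h.app D) := by
      have h1 := morphismRestrict_app h W (W.ι ⁻¹ᵁ D)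
      have e0 : W.ι ''ᵁ (W.ι ⁻¹ᵁ D) = D := by
        rw [Scheme.Hom.image_preimage_eq_opensRange_inf, Scheme.Opens.opensRange_ι]
        exact inf_eq_right.2 hD
      haveI : IsIso (h.app (W.ι ''ᵁ (W.ι ⁻¹ᵁ D))) := by
        have := (inferInstance : IsIso ((h ∣_ W).app (W.ι ⁻¹ᵁ D)))
        rw [h1] at this
        exact @IsIso.of_isIso_comp_right _ _ _ _ _ _ _ (Functor.map_isIso X1.presheaf _) this
      rw [← e0]
      infer_instance
    exact ConcreteCategory.bijective_of_isIso _
  obtain ⟨a', ha'⟩ := hbij.2 (X1.presheaf.map ((Opens.map h.base).map (homOfLE (X.basicOpen_le f))).op b)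
  haveI := hU.isLocalization_basicOpen f
  obtain ⟨⟨a, s, ⟨m, rfl⟩⟩, hs⟩ := IsLocalization.surj (Submonoid.powers f) a'
  let g : Γ(X1, h ⁻¹ᵁ U) := h.app U f
  have hpre : h ⁻¹ᵁ D = X1.basicOpen g := Scheme.preimage_basicOpen h f
  let c := g ^ m * b - h.app U a
  have hc : X1.presheaf.map (homOfLE (X1.basicOpen_le g)).op c = 0 := by
    have nat : ∀ z : Γ(X, U), X1.presheaf.map ((Opens.map h.base).map (homOfLE (X.basicOpen_le f))).op (h.app U z) =
        h.app D (X.presheaf.map (homOfLE (X.basicOpen_le f)).op z) := fun z =>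
      (ConcreteCategory.congr_hom (h.naturality (homOfLE (X.basicOpen_le f)).op) z).symm
    have h1 : X1.presheaf.map ((Opens.map h.base).map (homOfLE (X.basicOpen_le f))).op c = 0 := by
      rw [map_sub, map_mul, ← map_pow, nat, nat, ← ha', ← map_mul, sub_eq_zero]
      refine congrArg (h.app D) ?_
      rw [mul_comm]
      exact hs
    have h2 := congrArg (X1.presheaf.map (eqToHom hpre.symm).op) h1
    rw [← ConcreteCategory.comp_apply, ← Functor.map_comp, map_zero] at h2
    exact h2
  obtain ⟨k, hk⟩ := exists_pow_mul_eq_zero_of_res_basicOpen_eq_zero_of_isCompact X1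
    (hU.preimage h).isCompact c g (by
      exact hc)
  refine ⟨k + m, f ^ k * a, ?_⟩
  rw [map_mul, map_pow, pow_add, mul_assoc]
  have : g ^ k * (g ^ m * b) = g ^ k * h.app U a := by
    rw [← sub_eq_zero, ← mul_sub]; exact hk
  exact this.symm

end Groth.Agent.EGA3Amp7
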