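import Groth.Agent.AmpleLib.Local
import Groth.Agent.RelVALib.UPFunctor

/-!
# Descending sections along a finite surjective morphism, relative to a closed subscheme
-/

set_option autoImplicit false
set_option linter.style.haveILetI false
set_option backward.isDefEq.respectTransparency.types false
set_option maxHeartbeats 1000000

universe u

open CategoryTheory CategoryTheory.Limits AlgebraicGeometry TopologicalSpace Opposite
open Groth.Agent.Coherent Groth.Agent.PicLib Groth.Agent.AmpleLib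

namespace Groth.Agent.EGA3Amp7

variable {X X1 V Z1 : Scheme.{u}}

/-- A dominant morphism to a reduced scheme is injective on functions. -/
theorem injective_app_of_isDominant [IsReduced X] (h : X1 ⟶ X) [IsDominant h] (U : X.Opens) :
    Function.Injective (h.app U) := by
  refine (injective_iff_map_eq_zero _).2 fun a ha => ?_
  refine (basicOpen_eq_bot_iff a).1 (eq_bot_iff.2 fun x hx => ?_)
  obtain ⟨y, hy, z, rfl⟩ := h.denseRange.inter_open_nonempty _ (X.basicOpen a).2 ⟨x, hx⟩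
  have h1 : z ∈ h ⁻¹ᵁ X.basicOpen a := hy
  rw [Scheme.preimage_basicOpen, ha, Scheme.basicOpen_zero] at h1
  exact h1.elim

/-- Pullback of sections along such a morphism is injective. -/
theorem injective_pullSec_of_isDominant [IsReduced X] (h : X1 ⟶ X) [IsDominant h] {M : X.Modules}
    (hM : PicF.IsInvertible M) (U : X.Opens) : Function.Injective (pullSec h : Γ(M, U) → _) := by
  intro a b hab
  refine AmpleLib.sec_ext M _ _ fun x hx => ?_
  obtain ⟨W, hxW, g, hg⟩ := exists_isGen hM x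
  refine ⟨U ⊓ W, inf_le_left, ⟨hx, hxW⟩, ?_⟩
  have hg' : IsGen M (U ⊓ W) (resM M inf_le_right g) := hg.restrict inf_le_right
  have h1 := congrArg (resM _ ((Opens.map h.base).map (homOfLE (inf_le_left : U ⊓ W ≤ U))).le) hab
  rw [resM_pullSec h (inf_le_left : U ⊓ W ≤ U), resM_pullSec h (inf_le_left : U ⊓ W ≤ U), ← hg'.coef_spec le_rfl (resM M inf_le_left a),
    ← hg'.coef_spec le_rfl (resM M inf_le_left b), resM_self, pullSec_smul, pullSec_smul] at h1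
  have h2 : h.app (U ⊓ W) (hg'.coef le_rfl (resM M inf_le_left a)) =
      h.app (U ⊓ W) (hg'.coef le_rfl (resM M inf_le_left b)) := by
    refine ((isGen_pullSec h hg' hM) _ le_rfl).1 ?_
    simp only [resM_self]
    exact h1
  rw [← hg'.coef_spec le_rfl (resM M inf_le_left a), ← hg'.coef_spec le_rfl (resM M inf_le_left b),
    injective_app_of_isDominant h _ h2]

/-- If functions killed on `Z1` descend, then so do sections which on `Z1` come from `V`. -/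
theorem exists_descend_section [IsReduced X] (h : X1 ⟶ X) [IsDominant h] (ι : V ⟶ X) [IsClosedImmersion ι]
    (k : Z1 ⟶ X1) (q : Z1 ⟶ V) (comm : k ≫ h = q ≫ ι) {M : X.Modules} (hM : PicF.IsInvertible M)
    (hcov : ∀ x : X, ∃ U : X.Opens, x ∈ U ∧ IsAffineOpen U ∧ (∃ g, IsGen M U g) ∧
      ∀ b : Γ(X1, h ⁻¹ᵁ U), k.app (h ⁻¹ᵁ U) b = 0 → ∃ a : Γ(X, U), h.app U a = b)
    (σ : Γ((Scheme.Modules.pullback h).obj M, ⊤)) (t : Γ((Scheme.Modules.pullback ι).obj M, ⊤))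
    (c₁ : (Scheme.Modules.pullback (k ≫ h)).obj M ≅ (Scheme.Modules.pullback k).obj ((Scheme.Modules.pullback h).obj M))
    (hc₁ : ∀ (U : X.Opens) (m : Γ(M, U)) (hle : (k ≫ h) ⁻¹ᵁ U ≤ k ⁻¹ᵁ (h ⁻¹ᵁ U)),
      c₁.hom.app ((k ≫ h) ⁻¹ᵁ U) (pullSec (k ≫ h) m) = resM _ hle (pullSec k (pullSec h m)))
    (c₂ : (Scheme.Modules.pullback (k ≫ h)).obj M ≅ (Scheme.Modules.pullback q).obj ((Scheme.Modules.pullback ι).obj M))
    (hc₂ : ∀ (U : X.Opens) (m : Γ(M, U)) (hle : (k ≫ h) ⁻¹ᵁ U ≤ q ⁻¹ᵁ (ι ⁻¹ᵁ U)),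
      c₂.hom.app ((k ≫ h) ⁻¹ᵁ U) (pullSec (k ≫ h) m) = resM _ hle (pullSec q (pullSec ι m)))
    (hst : c₁.inv.app ⊤ (pullSec k σ) = c₂.inv.app ⊤ (pullSec q t)) :
    ∃ s : Γ(M, ⊤), pullSec h s = σ := by
  choose U hxU hU g' hloc using hcov
  choose g hg using g'
  have hpre : ∀ W : X.Opens, k ⁻¹ᵁ (h ⁻¹ᵁ W) = q ⁻¹ᵁ (ι ⁻¹ᵁ W) := fun W => by
    show (k ≫ h) ⁻¹ᵁ W = (q ≫ ι) ⁻¹ᵁ W
    rw [comm]
  have key : ∀ x, ∃ s : Γ(M, U x),
      pullSec h s = resM _ ((Opens.map h.base).map (homOfLE (le_top : U x ≤ ⊤))).le σ := by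
    intro x
    let W := U x
    have hG := isGen_pullSec h (hg x) hM
    have hGι := isGen_pullSec ι (hg x) hM
    obtain ⟨b, hb⟩ := (hG (h ⁻¹ᵁ W) le_rfl).2 (resM _ le_top σ)
    obtain ⟨a₀, ha₀⟩ := (hGι (ι ⁻¹ᵁ W) le_rfl).2 (resM _ le_top t)
    simp only [resM_self] at hb ha₀
    obtain ⟨a, rfl⟩ := ι.app_surjective W (hU x) a₀
    have hGc := isGen_pullSec (k ≫ h) (hg x) hM
    -- compare on `Z1`
    let kb : Γ(Z1, (k ≫ h) ⁻¹ᵁ W) := k.app (h ⁻¹ᵁ W) b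
    let ka : Γ(Z1, (k ≫ h) ⁻¹ᵁ W) := (k ≫ h).app W a
    have e₁ : c₁.inv.app ((k ≫ h) ⁻¹ᵁ W) (resM _ (le_top : (k ≫ h) ⁻¹ᵁ W ≤ ⊤) (pullSec k σ)) =
        kb • pullSec (k ≫ h) (g x) := by
      have h0 := resM_pullSec k (le_top : h ⁻¹ᵁ W ≤ ⊤) σ
      rw [← hb, pullSec_smul] at h0
      have h1 : resM _ (le_top : (k ≫ h) ⁻¹ᵁ W ≤ ⊤) (pullSec k σ) =
          kb • resM _ (le_refl _ : (k ≫ h) ⁻¹ᵁ W ≤ k ⁻¹ᵁ (h ⁻¹ᵁ W)) (pullSec k (pullSec h (g x))) :=
        h0.trans (congrArg (k.app (h ⁻¹ᵁ W) b • ·) (resM_self _ _ _).symm)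
      refine (congrArg _ h1).trans ?_
      refine (Scheme.Modules.Hom.app_smul _ _ _).trans (congrArg (_ • ·) ?_)
      refine (congrArg (c₁.inv.app _) (hc₁ W (g x) le_rfl).symm).trans ?_
      show (c₁.hom ≫ c₁.inv).app _ _ = _
      rw [c₁.hom_inv_id]
      rfl
    have e₂ : c₂.inv.app ((k ≫ h) ⁻¹ᵁ W) (resM _ (le_top : (k ≫ h) ⁻¹ᵁ W ≤ ⊤) (pullSec q t)) =
        ka • pullSec (k ≫ h) (g x) := by
      have h0 := resM_pullSec q (le_top : ι ⁻¹ᵁ W ≤ ⊤) t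
      rw [← ha₀, pullSec_smul] at h0
      have hle : (k ≫ h) ⁻¹ᵁ W ≤ q ⁻¹ᵁ (ι ⁻¹ᵁ W) := (hpre W).le
      have h1 : resM _ (le_top : (k ≫ h) ⁻¹ᵁ W ≤ ⊤) (pullSec q t) =
          ka • resM _ hle (pullSec q (pullSec ι (g x))) := by
        refine (resM_resM _ (le_top : q ⁻¹ᵁ (ι ⁻¹ᵁ W) ≤ ⊤) hle (pullSec q t)).symm.trans ?_
        refine (congrArg (resM _ hle) h0).trans ?_
        rw [resM_smul]
        refine congrArg (· • _) ?_
        show Z1.presheaf.map _ ((q ≫ ι).app W a) = (k ≫ h).app W a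
        rw [Scheme.Hom.congr_app comm W]
        rfl
      refine (congrArg _ h1).trans ?_
      refine (Scheme.Modules.Hom.app_smul _ _ _).trans (congrArg (_ • ·) ?_)
      refine (congrArg (c₂.inv.app _) (hc₂ W (g x) hle).symm).trans ?_
      show (c₂.hom ≫ c₂.inv).app _ _ = _
      rw [c₂.hom_inv_id]
      rfl
    rw [app_resM, hst, ← app_resM, e₂] at e₁
    have h3 : k.app (h ⁻¹ᵁ W) (h.app W a) = k.app (h ⁻¹ᵁ W) b := by
      refine (hGc _ le_rfl).1 ?_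
      simp only [resM_self]
      exact e₁
    obtain ⟨a', ha'⟩ := hloc x (b - h.app W a) (by rw [map_sub, h3, sub_self])
    refine ⟨(a + a') • g x, ?_⟩
    rw [pullSec_smul, map_add, ha', add_sub_cancel, hb]
    rfl
  choose s hs using key
  obtain ⟨s₀, hs₀⟩ : ∃ s₀ : Γ(M, ⊤), ∀ x, resM M (le_top : U x ≤ ⊤) s₀ = s x := by
    refine (TopCat.Sheaf.existsUnique_gluing' (⟨M.presheaf, M.isSheaf⟩ : TopCat.Sheaf Ab X)
      U ⊤ (fun x => homOfLE le_top) (fun x _ => Opens.mem_iSup.2 ⟨x, hxU x⟩) s (fun x y => ?_)).exists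
    show resM M inf_le_left (s x) = resM M inf_le_right (s y)
    refine injective_pullSec_of_isDominant h hM _ ?_
    rw [← resM_pullSec, ← resM_pullSec, hs x, hs y, resM_resM, resM_resM]
  refine ⟨s₀, AmpleLib.sec_ext _ _ _ fun z _ => ⟨h ⁻¹ᵁ U (h z), le_top, hxU (h z), ?_⟩⟩
  refine (resM_pullSec h (le_top : U (h z) ≤ ⊤) s₀).trans ?_
  rw [hs₀]
  exact hs (h z)

end Groth.Agent.EGA3Amp7
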