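import Groth.Agent.RelVALib.CoefIso
import Groth.Agent.Props12.FinLocFree
import Groth.Agent.Coherent.FinitePres
import Groth.Agent.Coherent.ProperFinite

/-!
# The trivial locus of the coefficient model after reduction
-/

set_option autoImplicit false
set_option linter.style.haveILetI false
set_option backward.isDefEq.respectTransparency.types false
set_option maxHeartbeats 1000000

universe u

open CategoryTheory CategoryTheory.Limits AlgebraicGeometry Opposite TopologicalSpace TensorProduct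
open Groth.Agent.Coherent Groth.Agent.PicLib Groth.Agent.RelVALib

namespace Groth.Agent.EGA3Amp7

variable {X X' Xr : Scheme.{u}}

/-- Over an affine open on which the functions upstairs form a free module, the coefficients are functions. -/
theorem coefTriv_of_basis (g : X' ⟶ X) [IsFinite g] {I : Type u} [Fintype I] {V : X.Opens} (hV : IsAffineOpen V)
    (b : letI := preAlg g V; Module.Basis I Γ(X, V) Γ(X', g ⁻¹ᵁ V)) : CoefTriv g V := by
  classical
  letI := preAlg g V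
  intro c hc
  refine Subring.closure_induction ?_ ⟨0, map_zero _⟩ ⟨1, map_one _⟩ ?_ ?_ ?_ hc
  · rintro _ (⟨r, rfl⟩ | ⟨⟨a, i⟩, rfl⟩)
    · exact ⟨r, rfl⟩
    refine ⟨charCoef b a i, funext fun η => ?_⟩
    have hη : η.1 ∈ V := η.2.2
    letI := evalAlg (X := X) hη
    letI := fibAlg g η.1
    letI := (fibRes g hη).toAlgebra
    letI : Algebra Γ(X, V) Γ(g.fiber η.1, ⊤) := ((fibRes g hη).comp (g.app V).hom).toAlgebra
    have : IsScalarTower Γ(X, V) Γ(X', g ⁻¹ᵁ V) Γ(g.fiber η.1, ⊤) := .of_algebraMap_eq fun _ => rfl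
    have : IsScalarTower Γ(X, V) (X.residueField η.1) Γ(g.fiber η.1, ⊤) := .of_algebraMap_eq fun r => fibRes_app g hη r
    have := isPushout_fibre g hη hV
    have hbc : IsBaseChange (X.residueField η.1)
        (IsScalarTower.toAlgHom Γ(X, V) Γ(X', g ⁻¹ᵁ V) Γ(g.fiber η.1, ⊤)).toLinearMap :=
      Algebra.IsPushout.out
    let b' : Module.Basis I (X.residueField η.1) Γ(g.fiber η.1, ⊤) :=
      (Module.Basis.baseChange (X.residueField η.1) b).map hbc.equiv
    have hb' : ∀ j, fibRes g hη (b j) = b' j := fun j => by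
      simp only [b', Module.Basis.map_apply, Module.Basis.baseChange_apply, IsBaseChange.equiv_tmul, one_smul]
      rfl
    show X.evaluation V η.1 hη (charCoef b a i) = genCoef g hη a i
    refine Eq.symm (Eq.trans (charCoef_indep (fibBasis g η.1) b' _ i) ?_)
    refine charCoef_map (X.evaluation V η.1 hη).hom (fibRes g hη) b b' hb' (fun x k => ?_) a i
    have hx : fibRes g hη x = hbc.equiv ((1 : X.residueField η.1) ⊗ₜ x) := by
      rw [IsBaseChange.equiv_tmul, one_smul]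
      rfl
    simp only [b', Module.Basis.map_repr, LinearEquiv.trans_apply, hx, LinearEquiv.symm_apply_apply,
      Module.Basis.baseChange_repr_tmul]
    simp [Algebra.smul_def]
    rfl
  · rintro _ _ _ _ ⟨r, rfl⟩ ⟨r', rfl⟩
    exact ⟨r + r', map_add _ _ _⟩
  · rintro _ _ ⟨r, rfl⟩
    exact ⟨-r, map_neg _ _⟩
  · rintro _ _ _ _ ⟨r, rfl⟩ ⟨r', rfl⟩
    exact ⟨r * r', map_mul _ _ _⟩

/-- Through a surjective closed immersion the local rings which are domains do not change. -/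
theorem bijective_stalkMap_of_isDomain (r : Xr ⟶ X) [IsClosedImmersion r] [Surjective r] (y : Xr)
    [IsDomain (X.presheaf.stalk (r y))] : Function.Bijective (r.stalkMap y) := by
  refine ⟨(injective_iff_map_eq_zero _).2 fun a ha => ?_, r.stalkMap_surjective y⟩
  obtain ⟨U, hyU, s, rfl⟩ := TopCat.Presheaf.exists_germ_eq X.presheaf a
  have h1 : Xr.presheaf.germ (r ⁻¹ᵁ U) y hyU (r.app U s) = 0 := by
    rw [← Scheme.Hom.germ_stalkMap_apply]; exact ha
  obtain ⟨V', hyV', i, i', hi⟩ := Xr.presheaf.germ_eq y (show y ∈ r ⁻¹ᵁ U from hyU) (show y ∈ r ⁻¹ᵁ U from hyU) (r.app U s) 0 (by rw [h1, map_zero])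
  obtain ⟨O, hO, hOV⟩ : ∃ O : X.Opens, r ⁻¹ᵁ O = V' ∧ True := by
    refine ⟨⟨r '' (V' : Set Xr), ?_⟩, ?_, trivial⟩
    · exact (Homeomorph.isOpenMap ((Equiv.ofBijective r ⟨r.isClosedEmbedding.injective, r.surjective⟩).toHomeomorphOfContinuousClosed
        r.continuous r.isClosedEmbedding.isClosedMap)) _ V'.2
    · ext z
      exact ⟨fun ⟨w, hw, e⟩ => r.isClosedEmbedding.injective e ▸ hw, fun hz => ⟨z, hz, rfl⟩⟩
  obtain ⟨W, hW, hyW, hWO'⟩ := exists_isAffineOpen_mem_and_subset (x := r y) (U := O ⊓ U)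
    ⟨show y ∈ r ⁻¹ᵁ O by rw [hO]; exact hyV', hyU⟩
  have hWO : W ≤ O ⊓ U := hWO'
  let s' := res (hWO.trans inf_le_right : W ≤ U) s
  have hz : r.app W s' = 0 := by
    have h2 : r ⁻¹ᵁ W ≤ V' := hO ▸ r.preimage_mono (hWO.trans inf_le_left)
    show r.app W (X.presheaf.map _ s) = 0
    rw [show r.app W (X.presheaf.map (homOfLE (hWO.trans inf_le_right : W ≤ U)).op s) =
      Xr.presheaf.map ((Opens.map r.base).map (homOfLE (hWO.trans inf_le_right : W ≤ U))).op (r.app U s) from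
      ConcreteCategory.congr_hom (r.naturality (homOfLE (hWO.trans inf_le_right : W ≤ U)).op) s]
    have h3 := congrArg (Xr.presheaf.map (homOfLE h2).op) hi
    rw [map_zero, map_zero] at h3
    rw [← ConcreteCategory.comp_apply, ← Functor.map_comp] at h3
    exact h3
  have hbot : X.basicOpen s' = ⊥ := by
    refine eq_bot_iff.2 fun x hx => ?_
    obtain ⟨w, rfl⟩ := r.surjective x
    have h4 : w ∈ r ⁻¹ᵁ X.basicOpen s' := hx
    rw [Scheme.preimage_basicOpen, hz, Scheme.basicOpen_zero] at h4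
    exact h4.elim
  have hnil : IsNilpotent s' :=
    (Scheme.isNilpotent_iff_basicOpen_eq_bot_of_isCompact hW.isCompact s').2 hbot
  have := hnil.map (X.presheaf.germ W (r y) hyW).hom
  rw [← isNilpotent_iff_eq_zero]
  convert this using 1
  exact (TopCat.Presheaf.germ_res_apply X.presheaf (homOfLE (hWO.trans inf_le_right : W ≤ U)) (r y) hyW s).symm

variable [IsNoetherian X] (g : X' ⟶ X) [IsFinite g] (r : Xr ⟶ X) [IsClosedImmersion r] [Surjective r]

/-- After reduction the points with free or normal stalk lie in the trivial locus. -/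
theorem mem_trivLocus_pullback [IsNoetherian Xr] [IsReduced Xr] {y : Xr}
    (h : (IsDomain (X.presheaf.stalk (r y)) ∧ IsIntegrallyClosed (X.presheaf.stalk (r y))) ∨
      Module.Free (X.presheaf.stalk (r y))
        (((Coh.push g).obj (Coh.structureModule X')).presheaf.stalk (r y))) :
    y ∈ trivLocus (pullback.snd g r) := by
  haveI : IsFinite (pullback.snd g r) := MorphismProperty.pullback_snd _ _ ‹IsFinite g›
  rcases h with ⟨hd, hn⟩ | hfree
  · let e := RingEquiv.ofBijective (r.stalkMap y).hom (bijective_stalkMap_of_isDomain r y)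
    haveI := hd
    haveI := hn
    haveI : IsDomain (Xr.presheaf.stalk y) := e.symm.toMulEquiv.isDomain
    haveI : IsIntegrallyClosed (Xr.presheaf.stalk y) := IsIntegrallyClosed.of_equiv e
    obtain ⟨U, hyU, hU, h⟩ := exists_coefTriv_of_normal (pullback.snd g r) ‹IsDomain (Xr.presheaf.stalk y)› ‹_›
    exact TopologicalSpace.Opens.mem_iSup.2 ⟨⟨U, hU, h⟩, hyU⟩
  let M := (Coh.push g).obj (Coh.structureModule X')
  haveI : IsLocallyNoetherian X' := LocallyOfFiniteType.isLocallyNoetherian g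
  have hM : Coh.IsCoh M := Coherent.isCoh_push_finite g (Coherent.isCoh_structureModule X')
  haveI := hM.1
  obtain ⟨U, n, hyU, ⟨eU⟩⟩ := Props12.exists_nhd_free M (Coherent.isFP_of_isCoh hM) (r y) hfree
  obtain ⟨W, hW, hyW, hWU⟩ := exists_isAffineOpen_mem_and_subset (x := r y) (U := U) hyU
  obtain ⟨b₀⟩ := Props12.exists_basis_sections eU hWU
  let g' := pullback.snd g r
  let k := pullback.fst g r
  let V := r ⁻¹ᵁ W
  have hV : IsAffineOpen V := hW.preimage r
  refine TopologicalSpace.Opens.mem_iSup.2 ⟨⟨V, hV, ?_⟩, hyW⟩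
  letI := preAlg g W
  letI := preAlg g' V
  let bW : Module.Basis (ULift.{u} (Fin n)) Γ(X, W) Γ(X', g ⁻¹ᵁ W) :=
    (b₀.map (AddEquiv.toLinearEquiv (AddEquiv.refl Γ(X', g ⁻¹ᵁ W)) fun _ _ => rfl)).reindex Equiv.ulift.symm
  have hle : g' ⁻¹ᵁ V ≤ k ⁻¹ᵁ (g ⁻¹ᵁ W) := by
    show (g' ≫ r) ⁻¹ᵁ W ≤ (k ≫ g) ⁻¹ᵁ W
    rw [pullback.condition]
  have hsq : IsPullback k g' g r := IsPullback.of_hasPullback g r
  have hpo := (isIso_pushoutSection_iff hsq (US := W) (UT := V) (UX := g ⁻¹ᵁ W) le_rfl le_rfl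
    (UY := g' ⁻¹ᵁ V) (le_antisymm (le_inf hle le_rfl) inf_le_right)).1
    (isIso_pushoutSection_of_isAffineOpen hsq _ _ _ hW hV (hW.preimage g))
  have hpo' : IsPushout (g.app W) (r.app W) (k.appLE (g ⁻¹ᵁ W) (g' ⁻¹ᵁ V) hle) (g'.app V) := by
    simpa [Scheme.Hom.app_eq_appLE] using hpo
  letI : Algebra Γ(X, W) Γ(Xr, V) := (r.app W).hom.toAlgebra
  letI : Algebra Γ(X', g ⁻¹ᵁ W) Γ(pullback g r, g' ⁻¹ᵁ V) := (k.appLE _ _ hle).hom.toAlgebra
  letI : Algebra Γ(X, W) Γ(pullback g r, g' ⁻¹ᵁ V) := ((k.appLE _ _ hle).hom.comp (g.app W).hom).toAlgebra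
  haveI : IsScalarTower Γ(X, W) Γ(X', g ⁻¹ᵁ W) Γ(pullback g r, g' ⁻¹ᵁ V) := .of_algebraMap_eq fun _ => rfl
  haveI : IsScalarTower Γ(X, W) Γ(Xr, V) Γ(pullback g r, g' ⁻¹ᵁ V) :=
    .of_algebraMap_eq fun z => ConcreteCategory.congr_hom hpo'.w z
  have h2 : Algebra.IsPushout Γ(X, W) Γ(X', g ⁻¹ᵁ W) Γ(Xr, V) Γ(pullback g r, g' ⁻¹ᵁ V) :=
    CommRingCat.isPushout_iff_isPushout.1 hpo'
  haveI := h2.symm
  have hbc : IsBaseChange Γ(Xr, V)
      (IsScalarTower.toAlgHom Γ(X, W) Γ(X', g ⁻¹ᵁ W) Γ(pullback g r, g' ⁻¹ᵁ V)).toLinearMap :=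
    Algebra.IsPushout.out
  exact coefTriv_of_basis g' hV ((Module.Basis.baseChange Γ(Xr, V) bW).map hbc.equiv)

end Groth.Agent.EGA3Amp7
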