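import Groth.Agent.EGA3Amp7.Main
import Groth.Agent.EGA3Amp7.TrivLocus
import Groth.Agent.RelVALib.CoefAmple
import Groth.Agent.H8Lim.ThickeningAmple
import Groth.Agent.AmpleLib.Relative2
import Groth.Agent.Et18.ProperOver
import Groth.Agent.FlatMor12.FreeLocusBC
import Groth.Agent.Coherent.HigherQcoh

/-!
# EGA III 2.6.2
-/

set_option autoImplicit false
set_option linter.style.haveILetI false
set_option backward.isDefEq.respectTransparency.types false
set_option maxHeartbeats 1000000

universe u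

open CategoryTheory CategoryTheory.Limits AlgebraicGeometry TopologicalSpace Opposite
open Groth.Agent.Coherent Groth.Agent.PicLib Groth.Agent.AmpleLib

namespace Groth.Agent.EGA3Amp7

/-- The hypothesis on a point. -/
def GoodAt {X X' : Scheme.{u}} (g : X' ⟶ X) (x : X) : Prop :=
  (IsDomain (X.presheaf.stalk x) ∧ IsIntegrallyClosed (X.presheaf.stalk x)) ∨
    Module.Free (X.presheaf.stalk x) (((Coh.push g).obj (Coh.structureModule X')).presheaf.stalk x)

theorem goodAt_restrict {X X' : Scheme.{u}} (g : X' ⟶ X) (P : X.Opens) (x : P.toScheme)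
    (h : GoodAt g (P.ι x)) : GoodAt (g ∣_ P) x := by
  rcases h with ⟨hd, hn⟩ | hfree
  · left
    let e := RingEquiv.ofBijective (P.ι.stalkMap x).hom (ConcreteCategory.bijective_of_isIso _)
    haveI := hd
    haveI := hn
    exact ⟨e.symm.toMulEquiv.isDomain, IsIntegrallyClosed.of_equiv e⟩
  · right
    let O' := (g ⁻¹ᵁ P).toScheme
    obtain ⟨eO⟩ := AmpleLib.exists_pullStructureIso (X := X') (g ⁻¹ᵁ P).ι
    refine FlatMor12.FreeLocusBC.free_stalk_of_iso ?_ x
      (FlatMor12.FreeLocusBC.free_stalk_pullback P.ι _ x hfree)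
    exact ((Scheme.Modules.restrictFunctorIsoPullback P.ι).app _).symm ≪≫
      (Coherent.pushRestrictIso g P).app (Coh.structureModule X') ≪≫
      (Coh.push (g ∣_ P)).mapIso ((Scheme.Modules.restrictFunctorIsoPullback (g ⁻¹ᵁ P).ι).app _ ≪≫ eO)

theorem isProperOver_restrict {X Y : Scheme.{u}} (f : X ⟶ Y) (V : Y.Opens) {Z : Set X}
    (hZ : ClSub.IsProperOver f Z) {S : Scheme.{u}} (e : V.toScheme ⟶ S) [IsIso e] :
    ClSub.IsProperOver ((f ∣_ V) ≫ e) ((f ⁻¹ᵁ V).ι ⁻¹' Z) := by
  refine Et18.IsProperOver.preimage hZ (b := inv e ≫ V.ι) (IsPullback.of_iso (isPullback_morphismRestrict f V).flip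
    (Iso.refl _) (Iso.refl _) (asIso e) (Iso.refl _) ?_ ?_ ?_ ?_) <;> simp

/-- The affine case. -/
theorem isAmple_of_goodAt {R : Type u} [CommRing R] [IsNoetherianRing R] {X X' : Scheme.{u}}
    (q : X ⟶ Spec (CommRingCat.of R)) [LocallyOfFiniteType q] [QuasiCompact q]
    (g : X' ⟶ X) [IsFinite g] [Surjective g] {L : X.Modules} (hL : PicF.IsInvertible L) {Z : Set X}
    (hZ : ClSub.IsProperOver q Z) (hgood : ∀ x ∉ Z, GoodAt g x)
    (hA : CohB1.IsAmple ((Scheme.Modules.pullback g).obj L)) : CohB1.IsAmple L := by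
  haveI : IsLocallyNoetherian X := LocallyOfFiniteType.isLocallyNoetherian q
  haveI : CompactSpace X := QuasiCompact.compactSpace_of_compactSpace q
  haveI : IsNoetherian X := {}
  let J : X.IdealSheafData := Scheme.IdealSheafData.vanishingIdeal ⊤
  let r := J.subschemeι
  haveI : Surjective r := ⟨fun x => by
    have h : x ∈ Set.range r := by
      simp [r, J, Scheme.IdealSheafData.range_subschemeι]
    exact h⟩
  have hr : IsHomeomorph r.base :=
    isHomeomorph_iff_continuous_isClosedMap_bijective.2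
      ⟨r.continuous, r.isClosedEmbedding.isClosedMap, r.isClosedEmbedding.injective, r.surjective⟩
  haveI : AlgebraicGeometry.IsReduced J.subscheme := Props12.isReduced_subscheme_vanishingIdeal _
  haveI : IsLocallyNoetherian J.subscheme := LocallyOfFiniteType.isLocallyNoetherian r
  haveI : CompactSpace J.subscheme := QuasiCompact.compactSpace_of_compactSpace r
  haveI : IsNoetherian J.subscheme := {}
  let g' := pullback.snd g r
  haveI : IsFinite g' := MorphismProperty.pullback_snd _ _ ‹IsFinite g›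
  haveI : Surjective g' := MorphismProperty.pullback_snd _ _ ‹Surjective g›
  have hLr : PicF.IsInvertible ((Scheme.Modules.pullback r).obj L) := PicLoc.isInvertible_pullback r hL
  let W : J.subscheme.Opens := r ⁻¹ᵁ ⟨Zᶜ, hZ.choose.isOpen_compl⟩
  have hW : W ≤ RelVALib.trivLocus g' := fun y hy => mem_trivLocus_pullback g r (hgood (r y) hy)
  let h := RelVALib.coefπ g'
  haveI : IsIso (h ∣_ W) := RelVALib.isIso_coefπ_of_le g' hW
  haveI : Surjective h := ⟨fun y => by
    have hsub : (RelVALib.trivLocus g' : Set J.subscheme) ⊆ Set.range h := fun z hz => by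
      haveI := RelVALib.isIso_coefπ_trivLocus g'
      obtain ⟨w, hw⟩ := (h ∣_ RelVALib.trivLocus g').surjective ⟨z, hz⟩
      exact ⟨w.1, (morphismRestrict_base_coe h _ w).symm.trans (congrArg Subtype.val hw)⟩
    have h1 := h.isClosedMap.isClosed_range.closure_subset_iff.2 hsub
    exact h1 ((RelVALib.dense_trivLocus g').closure_eq.ge trivial)⟩
  have hA' : CohB1.IsAmple ((Scheme.Modules.pullback g').obj ((Scheme.Modules.pullback r).obj L)) := by
    refine (isAmple_pullback_comp_iff g' r).2 (isAmple_pullback_congr pullback.condition ?_)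
    exact (isAmple_pullback_comp_iff (pullback.fst g r) g).1 (isAmple_pullback_of_isAffineHom _ hA)
  have hp : ClSub.IsProperOver (r ≫ q) ((W : Set J.subscheme)ᶜ) := by
    have e : ((W : Set J.subscheme)ᶜ) = r ⁻¹' Z := by
      ext z; exact not_not
    rw [e]
    exact Coherent.isProperOver_preimage_of_isProper (r ≫ q) q r rfl hZ
  exact (H8Lim.isAmple_iff_of_isHomeomorph r hr hL).1
    (isAmple_of_finite_birational (r ≫ q) h W hp hLr (RelVALib.isAmple_coefModel g' hLr hA'))

/-- EGA III 2.6.2. -/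
theorem isRelAmple_of_pullback {X X' Y : Scheme.{u}} (f : X ⟶ Y)
    [IsLocallyNoetherian Y] [LocallyOfFiniteType f] [QuasiCompact f] (g : X' ⟶ X) [IsFinite g] [Surjective g]
    {L : X.Modules} (hL : PicF.IsInvertible L) {Z : Set X} (hZ : ClSub.IsProperOver f Z)
    (hgood : ∀ x ∉ Z, GoodAt g x)
    (h : RelAmple.IsRelAmple (g ≫ f) ((Scheme.Modules.pullback g).obj L)) : RelAmple.IsRelAmple f L := by
  refine isRelAmple_of_affine_cover f hL fun y => ?_
  obtain ⟨V, hV, hyV, -⟩ := exists_isAffineOpen_mem_and_subset (x := y) (U := ⊤) trivial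
  refine ⟨⟨V, hV⟩, hyV, ?_⟩
  let P := f ⁻¹ᵁ V
  haveI : IsNoetherianRing Γ(Y, V) := IsLocallyNoetherian.component_noetherian ⟨V, hV⟩
  let e : V.toScheme ⟶ Spec Γ(Y, V) := hV.isoSpec.hom
  let q : P.toScheme ⟶ Spec (CommRingCat.of Γ(Y, V)) := (f ∣_ V) ≫ e
  haveI : LocallyOfFiniteType (f ∣_ V) :=
    MorphismProperty.of_isPullback (isPullback_morphismRestrict f V).flip ‹LocallyOfFiniteType f›
  haveI : QuasiCompact (f ∣_ V) :=
    MorphismProperty.of_isPullback (isPullback_morphismRestrict f V).flip ‹QuasiCompact f›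
  haveI : LocallyOfFiniteType q := inferInstanceAs (LocallyOfFiniteType ((f ∣_ V) ≫ e))
  haveI : QuasiCompact q := inferInstanceAs (QuasiCompact ((f ∣_ V) ≫ e))
  haveI : IsFinite (g ∣_ P) := MorphismProperty.of_isPullback (isPullback_morphismRestrict g P).flip ‹IsFinite g›
  haveI : Surjective (g ∣_ P) := MorphismProperty.of_isPullback (isPullback_morphismRestrict g P).flip ‹Surjective g›
  have hp : ClSub.IsProperOver q (P.ι ⁻¹' Z) :=
    isProperOver_restrict f V hZ e
  refine isAmple_of_goodAt q (g ∣_ P) (PicLoc.isInvertible_pullback _ hL) hp (fun x hx => ?_) ?_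
  · exact goodAt_restrict g P x (hgood (P.ι x) hx)
  · refine (isAmple_pullback_comp_iff _ _).2 (isAmple_pullback_congr (morphismRestrict_ι g P).symm ?_)
    exact (isAmple_pullback_comp_iff _ _).1 (((isRelAmple_iff (g ≫ f)).1 h).2 ⟨V, hV⟩)

end Groth.Agent.EGA3Amp7
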