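import Groth.Agent.MorProj.VeryAmple
import Groth.Agent.MorProj.QuasiAff
import Groth.Agent.Coherent.Serre.Vanishing
import Groth.Agent.Clifford24.Lipman.ClosedSub
import Groth.Agent.RelVALib.CoprodImm
import Groth.Agent.RelVALib.UPFunctor
import Groth.Agent.RelVALib.Projective
import Groth.Agent.RelVALib.ChowPn

/-!
# Lifting sections from a proper closed subscheme of a quasi-projective scheme
-/

set_option autoImplicit false
set_option linter.style.haveILetI false
set_option backward.isDefEq.respectTransparency.types false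
set_option maxHeartbeats 1000000

universe u

open CategoryTheory CategoryTheory.Limits AlgebraicGeometry TopologicalSpace Opposite
open Groth.Agent.Coherent Groth.Agent.PicLib Groth.Agent.AmpleLib Groth.Agent.EulerLib Groth.Agent.Lipman24

namespace Groth.Agent.EGA3Amp7

variable {R : Type u} [CommRing R] [IsNoetherianRing R] {X : Scheme.{u}}

/-- Restriction of sections of high twists to a closed subscheme is surjective. -/
theorem eventually_surjective_pullSec (p : X ⟶ Spec (CommRingCat.of R)) [IsProper p] {L : X.Modules}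
    (hL : CohB1.IsAmple L) (J : X.IdealSheafData) :
    ∃ N : ℕ, ∀ n, N ≤ n → Function.Surjective (pullSec J.subschemeι (L := CohB1.tensorPow L n) (U := ⊤)) := by
  let _ : X.Over (Spec (CommRingCat.of R)) := ⟨p⟩
  haveI : IsProper (X ↘ Spec (CommRingCat.of R)) := ‹_›
  haveI : IsLocallyNoetherian X := LocallyOfFiniteType.isLocallyNoetherian p
  obtain ⟨N, hN⟩ := Coherent.Serre.exists_subsingleton_HH_twist R hL _ (CurveRR24.isCoh_idealMod' J)
  refine ⟨N, fun n hn => surjective_pullSec_of_H1 J.subschemeι ?_⟩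
  let P := CohB1.tensorPow L n
  have hP : PicF.IsInvertible P := isInvertible_tensorPow hL.1 n
  haveI hq : Coh.IsQCoh P := isQCoh_of_isInvertible hP
  have hz : twistMul J P ≫ clUnit J.subschemeι P = 0 := AmpleLib.hom_ext fun U a b => by
    show pullSec J.subschemeι ((twistMul J P).app U (tmul a b)) = _
    rw [twistMul_tmul, pullSec_smul, (mem_range_idealModι J U _).1 ⟨a, rfl⟩, zero_smul]
    rfl
  let μ : CohB1.tensorMod (ClSub.idealMod J) P ⟶ kernel (clUnit J.subschemeι P) :=
    kernel.lift _ (twistMul J P) hz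
  haveI : Mono μ := by
    haveI := CurveRR24.mono_twistMul J hP
    haveI : Mono (μ ≫ kernel.ι (clUnit J.subschemeι P)) := by rw [kernel.lift_ι]; infer_instance
    exact mono_of_mono μ (kernel.ι (clUnit J.subschemeι P))
  haveI : Epi μ := by
    refine epi_of_locally_surjective _ fun W m y hy => ?_
    obtain ⟨V, hyV, g, hg⟩ := exists_isGen hP y
    let U := W ⊓ V
    let g' := resM P (inf_le_right : U ≤ V) g
    have hg' : IsGen P U g' := hg.restrict inf_le_right
    let m' : Γ(P, U) := (kernel.ι (clUnit J.subschemeι P)).app U (resM _ inf_le_left m)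
    obtain ⟨r, hr⟩ := (hg' U le_rfl).2 m'
    beta_reduce at hr
    rw [resM_self] at hr
    have h0 : pullSec J.subschemeι m' = 0 := kernel_ι_app_zero (clUnit J.subschemeι P) U _
    rw [← hr, pullSec_smul] at h0
    have hr0 : J.subschemeι.app U r = 0 := by
      refine ((isGen_pullSec J.subschemeι hg' hP) _ le_rfl).1 ?_
      show J.subschemeι.app U r • resM _ le_rfl _ = (0 : Γ(J.subscheme, _)) • resM _ le_rfl _
      rw [resM_self, h0, zero_smul]
    obtain ⟨c, hc⟩ := (mem_range_idealModι J U r).2 hr0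
    refine ⟨U, inf_le_left, ⟨hy, hyV⟩, tmul c g', ?_⟩
    refine app_injective_of_mono (kernel.ι (clUnit J.subschemeι P)) U ?_
    refine Eq.trans ?_ hr
    show ((μ ≫ kernel.ι _).app U) (tmul c g') = _
    rw [kernel.lift_ι, twistMul_tmul, hc]
  haveI : IsIso μ := isIso_of_mono_of_epi μ
  exact Coherent.Serre.HH_subsingleton_of_iso R (asIso μ) 1 (hN n hn 1 one_pos)

omit [IsNoetherianRing R] in
/-- The nonvanishing locus of the zero section is empty. -/
theorem glocus_zero_inf {L : X.Modules} (hL : PicF.IsInvertible L) {a : Γ(L, ⊤)} {U : X.Opens}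
    (h : resM L (le_top : U ≤ ⊤) a = 0) : glocus L a ⊓ U = ⊥ := by
  refine eq_bot_iff.2 fun x ⟨hxa, hxU⟩ => ?_
  obtain ⟨W, hxW, g, hg⟩ := exists_isGen hL x
  have hg' : IsGen L (U ⊓ W) (resM L inf_le_right g) := hg.restrict inf_le_right
  have h1 : x ∈ glocus L a ⊓ (U ⊓ W) := ⟨hxa, hxU, hxW⟩
  rw [glocus_inf a hg'] at h1
  have h2 : hg'.coef le_rfl (resM L le_top a) = 0 := by
    refine hg'.coef_eq le_rfl ?_
    rw [zero_smul, ← resM_resM L (le_top : U ≤ ⊤) (inf_le_left : U ⊓ W ≤ U) a, h, map_zero]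
  rw [h2, Scheme.basicOpen_zero] at h1
  exact h1

/-- A closed subscheme of a quasi-projective scheme, proper over the base: sections lift to sections
with affine nonvanishing loci. -/
theorem eventually_exists_section {Xb X1 Z1 : Scheme.{u}} (p : Xb ⟶ Spec (CommRingCat.of R)) [IsProper p]
    {Lb : Xb.Modules} (hLb : CohB1.IsAmple Lb) (j : X1 ⟶ Xb) [IsOpenImmersion j] (κ : Z1 ⟶ X1)
    [IsClosedImmersion (κ ≫ j)] :
    ∃ N : ℕ, 0 < N ∧ ∀ n, N ≤ n → ∀ (M : X1.Modules)
      (_ : M ≅ (Scheme.Modules.pullback j).obj (CohB1.tensorPow Lb n))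
      (τ : Γ((Scheme.Modules.pullback κ).obj M, ⊤)),
      ∃ σ : Γ(M, ⊤), pullSec κ σ = τ ∧ IsAffineOpen (glocus M σ) := by
  let B : Closeds Xb := ⟨(j.opensRange : Set Xb)ᶜ, j.opensRange.2.isClosed_compl⟩
  let b : (Scheme.IdealSheafData.vanishingIdeal B).subscheme ⟶ Xb :=
    (Scheme.IdealSheafData.vanishingIdeal B).subschemeι
  have hb : Set.range b = (j.opensRange : Set Xb)ᶜ := by
    simp only [b, Scheme.IdealSheafData.range_subschemeι, Scheme.IdealSheafData.coe_support_vanishingIdeal]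
    rfl
  let i : Z1 ⟶ Xb := κ ≫ j
  haveI : IsClosedImmersion i := ‹_›
  have hdis : Disjoint (Set.range i) (Set.range b) := by
    rw [hb, Set.disjoint_compl_right_iff_subset]
    rintro _ ⟨z, rfl⟩
    exact ⟨κ z, rfl⟩
  let D := Z1 ⨿ (Scheme.IdealSheafData.vanishingIdeal B).subscheme
  let d : D ⟶ Xb := coprod.desc i b
  haveI : IsClosedImmersion d := RelVALib.isClosedImmersion_coprod_desc i b hdis
  obtain ⟨N, hN⟩ := eventually_surjective_pullSec p hLb d.ker
  refine ⟨N + 1, N.succ_pos, fun n hn M φ τ => ?_⟩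
  let P := CohB1.tensorPow Lb n
  have hP : PicF.IsInvertible P := isInvertible_tensorPow hLb.1 n
  -- surjectivity onto sections over `D`
  have hsurj : Function.Surjective (pullSec d (L := P) (U := ⊤)) := by
    intro t
    let e := d.toImage
    haveI : IsIso e := inferInstanceAs (IsIso d.toImage)
    obtain ⟨c, hc⟩ := RelVALib.exists_compIso e d.imageι d d.toImage_imageι P
    have hbij := bijective_pullSec e (fun V => ConcreteCategory.bijective_of_isIso (e.app V))
      (PicLoc.isInvertible_pullback d.imageι hP) ⊤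
    obtain ⟨t', ht'⟩ := hbij.2 (c.hom.app ⊤ t)
    obtain ⟨s, hs⟩ := hN n (by omega) t'
    refine ⟨s, ?_⟩
    have h1 := (hc ⊤ s le_rfl).trans (resM_self _ _ _)
    refine app_injective_of_mono c.hom ⊤ ?_
    refine h1.trans ?_
    show pullSec e (pullSec d.imageι s) = _
    rw [← ht']
    exact congrArg _ hs
  -- the section over `D`
  let inl : Z1 ⟶ D := coprod.inl
  let inr : (Scheme.IdealSheafData.vanishingIdeal B).subscheme ⟶ D := coprod.inr
  let PD := (Scheme.Modules.pullback d).obj P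
  have hPD : PicF.IsInvertible PD := PicLoc.isInvertible_pullback d hP
  obtain ⟨c₁, hc₁⟩ := RelVALib.exists_compIso κ j i rfl P
  obtain ⟨c₂, hc₂⟩ := RelVALib.exists_compIso inl d i (coprod.inl_desc _ _) P
  let τ' : Γ((Scheme.Modules.pullback κ).obj ((Scheme.Modules.pullback j).obj P), ⊤) :=
    ((Scheme.Modules.pullback κ).map φ.hom).app ⊤ τ
  let τ₂ : Γ((Scheme.Modules.pullback inl).obj PD, ⊤) := c₂.hom.app ⊤ (c₁.inv.app ⊤ τ')
  have htop : inl ⁻¹ᵁ inl.opensRange = ⊤ := by ext z; simp
  obtain ⟨a, ha⟩ := (bijective_pullSec_opensRange inl hPD inl.opensRange le_rfl).2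
    (resM _ le_top τ₂)
  have hcompl := isCompl_opensRange_inl_inr Z1 (Scheme.IdealSheafData.vanishingIdeal B).subscheme
  obtain ⟨tD, htD, htD'⟩ := exists_glue PD hcompl.sup_eq_top a (0 : Γ(PD, inr.opensRange)) (by
    refine TopCat.Sheaf.eq_of_locally_eq' (⟨PD.presheaf, PD.isSheaf⟩ : TopCat.Sheaf Ab D)
      (fun e : PEmpty.{u + 1} => e.elim) _ (fun e => e.elim) ?_ _ _ fun e => e.elim
    exact le_of_eq_of_le hcompl.inf_eq_bot bot_le)
  obtain ⟨σb, hσb⟩ := hsurj tD
  have hinl : pullSec inl tD = τ₂ := by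
    have h1 := resM_pullSec inl (le_top : inl.opensRange ≤ ⊤) tD
    rw [htD, ha] at h1
    have h2 := congrArg (resM ((Scheme.Modules.pullback inl).obj PD) (htop.ge)) h1
    rw [resM_resM, resM_resM] at h2
    exact (resM_self _ _ _).symm.trans (h2.trans (resM_self _ _ _))
  let σ₀ : Γ((Scheme.Modules.pullback j).obj P, ⊤) := pullSec j σb
  have hσ₀ : pullSec κ σ₀ = τ' := by
    have h1 := (hc₁ ⊤ σb le_rfl).trans (resM_self _ _ _)
    have h2 := (hc₂ ⊤ σb le_rfl).trans (resM_self _ _ _)
    have h3 : pullSec i σb = c₁.inv.app ⊤ τ' := by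
      refine app_injective_of_mono c₂.hom ⊤ ?_
      refine h2.trans ?_
      rw [hσb]
      exact hinl
    refine h1.symm.trans ?_
    rw [h3]
    show (c₁.inv ≫ c₁.hom).app ⊤ τ' = τ'
    rw [c₁.inv_hom_id]
    rfl
  refine ⟨φ.inv.app ⊤ σ₀, ?_, ?_⟩
  · rw [← pullback_map_app_pullSec κ φ.inv σ₀]
    refine (congrArg _ hσ₀).trans ?_
    show ((Scheme.Modules.pullback κ).map φ.hom ≫ (Scheme.Modules.pullback κ).map φ.inv).app ⊤ τ = τ
    rw [← Functor.map_comp, φ.hom_inv_id, CategoryTheory.Functor.map_id]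
    rfl
  · rw [show glocus M (φ.inv.app ⊤ σ₀) = glocus _ σ₀ from glocus_map_iso φ.symm σ₀, glocus_pullSec j hP]
    refine (MorProj.isAffineOpen_glocus_of_universallyClosed p ((isAmple_pow_iff hLb.1 n (by omega)).2 hLb)
      σb).preimage_of_isOpenImmersion j ?_
    intro x hx
    by_contra hxr
    obtain ⟨z, rfl⟩ : x ∈ Set.range b := hb.ge hxr
    have h1 : inr z ∈ glocus PD tD := by
      rw [← hσb, glocus_pullSec d hP]
      show d (inr z) ∈ glocus P σb
      rw [← Scheme.Hom.comp_apply, coprod.inr_desc]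
      exact hx
    have h2 : inr z ∈ glocus PD tD ⊓ inr.opensRange := ⟨h1, z, rfl⟩
    rw [glocus_zero_inf hPD htD'] at h2
    exact h2

omit [IsNoetherianRing R] in
/-- A scheme of finite type over a ring with an ample module is open in a proper one in which a power
of the module extends to an ample one. -/
theorem exists_ample_compactification (q : X ⟶ Spec (CommRingCat.of R)) [LocallyOfFiniteType q]
    [QuasiCompact q] {L : X.Modules} (hL : CohB1.IsAmple L) :
    ∃ (m : ℕ) (Xb : Scheme.{u}) (j : X ⟶ Xb) (p : Xb ⟶ Spec (CommRingCat.of R)) (Lb : Xb.Modules),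
      0 < m ∧ IsOpenImmersion j ∧ IsProper p ∧ j ≫ p = q ∧ CohB1.IsAmple Lb ∧
        Nonempty (CohB1.tensorPow L m ≅ (Scheme.Modules.pullback j).obj Lb) := by
  obtain ⟨n₀, hn₀⟩ := MorProj.eventually_isRelVeryAmplePn_pow q hL
  obtain ⟨n, i, hi, hiq, ⟨e⟩⟩ := hn₀ (n₀ + 1) n₀.le_succ
  haveI := hi
  let S := Spec (CommRingCat.of R)
  haveI : IsProper (CohB1.ProjSpaceOver.toBase n S) := RelVALib.isProper_toBase n S
  haveI : QuasiCompact (i ≫ CohB1.ProjSpaceOver.toBase n S) := by
    rw [show i ≫ CohB1.ProjSpaceOver.toBase n S = q from hiq]; infer_instance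
  haveI : QuasiCompact i := QuasiCompact.of_comp i (CohB1.ProjSpaceOver.toBase n S)
  haveI : IsAffineHom (specULiftZIsTerminal.from S) := isAffineHom_of_isAffine _
  haveI : IsAffineHom (pullback.fst (CohB1.ProjSpace.toSpec n (ULift.{u} ℤ)) (specULiftZIsTerminal.from S)) :=
    MorphismProperty.pullback_fst _ _ inferInstance
  have hO : CohB1.IsAmple (Twist.twistOver n S 1) :=
    isAmple_pullback_of_isAffineHom (pullback.fst _ (specULiftZIsTerminal.from S))
      (MorProj.isAmple_twistProjSpace n)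
  refine ⟨n₀ + 1, i.image, i.toImage, i.imageι ≫ CohB1.ProjSpaceOver.toBase n S,
    (Scheme.Modules.pullback i.imageι).obj (Twist.twistOver n S 1), n₀.succ_pos, inferInstance,
    inferInstance, ?_, isAmple_pullback_of_isAffineHom _ hO, ⟨e ≪≫ ?_⟩⟩
  · rw [← Category.assoc, Scheme.Hom.toImage_imageι]; exact hiq
  · exact (Scheme.Modules.pullbackCongr i.toImage_imageι.symm).app _ ≪≫
      ((Scheme.Modules.pullbackComp i.toImage i.imageι).app _).symm

end Groth.Agent.EGA3Amp7
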