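import Groth.Agent.EGA3Amp7.Lift
import Groth.Agent.EGA3Amp7.Descend
import Groth.Agent.EGA3Amp7.Conductor
import Groth.Agent.Coherent.Serre.AmpleCover
import Groth.Agent.Coherent.ProperOverApps
import Groth.Agent.FlatMorWeight.Chevalley

/-!
# Ampleness descends along finite surjective morphisms which are isomorphisms outside a proper subset
-/

set_option autoImplicit false
set_option linter.style.haveILetI false
set_option backward.isDefEq.respectTransparency.types false
set_option maxHeartbeats 1000000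

universe u

open CategoryTheory CategoryTheory.Limits AlgebraicGeometry TopologicalSpace Opposite
open Groth.Agent.Coherent Groth.Agent.PicLib Groth.Agent.AmpleLib

namespace Groth.Agent.EGA3Amp7

variable {R : Type u} [CommRing R] [IsNoetherianRing R] {X X1 : Scheme.{u}}

/-- On a proper scheme ampleness descends along finite surjective morphisms. -/
theorem isAmple_of_finite_surjective_proper {P V : Scheme.{u}} (q : V ⟶ Spec (CommRingCat.of R)) [IsProper q]
    (g : P ⟶ V) [IsFinite g] [Surjective g] {L : V.Modules} (hL : PicF.IsInvertible L)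
    (hA : CohB1.IsAmple ((Scheme.Modules.pullback g).obj L)) : CohB1.IsAmple L := by
  refine Coherent.Serre.isAmple_of_covers R q hL fun y => ?_
  let S : Closeds P := ⟨g ⁻¹' closure {y}, isClosed_closure.preimage g.continuous⟩
  let e := (Scheme.IdealSheafData.vanishingIdeal S).subschemeι
  have hr : Set.range e = (S : Set P) := by
    simp [e, Scheme.IdealSheafData.range_subschemeι, Scheme.IdealSheafData.coe_support_vanishingIdeal]
  refine ⟨_, e ≫ g, Props12.isReduced_subscheme_vanishingIdeal _, inferInstance, ?_, ?_,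
    isAmple_of_iso ((Scheme.Modules.pullbackComp e g).app L) (isAmple_pullback_of_isAffineHom e hA)⟩
  · rintro _ ⟨z, rfl⟩
    exact hr.le ⟨z, rfl⟩
  · obtain ⟨p, rfl⟩ := g.surjective y
    obtain ⟨z, hz⟩ : p ∈ Set.range e := hr.ge (subset_closure (Set.mem_singleton _))
    exact ⟨z, by rw [Scheme.Hom.comp_apply, hz]⟩

omit [IsNoetherianRing R] in
theorem app_zero' {M N : X.Modules} (φ : M ⟶ N) (U : X.Opens) : φ.app U (0 : Γ(M, U)) = 0 := map_zero _

omit [IsNoetherianRing R] in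
theorem powSec_eq_zero_of_tmul {L : X.Modules} (a : Γ(L, ⊤)) {n : ℕ}
    (h : tmul (oneSec (X := X) ⊤) (powSec a n) = 0) : powSec a n = 0 := by
  have h1 := congrArg ((unitTensorIso (CohB1.tensorPow L n)).hom.app ⊤) h
  rw [map_zero] at h1
  refine Eq.trans ?_ h1
  refine Eq.trans ?_ (Bilin.desc_tmul _ _ _ _).symm
  exact (one_smul _ _).symm

omit [IsNoetherianRing R] in
/-- A section with empty locus on a compact scheme has a vanishing power. -/
theorem exists_powSec_eq_zero [CompactSpace X] {L : X.Modules} (hL : PicF.IsInvertible L) (a : Γ(L, ⊤))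
    (h : glocus L a = ⊥) : ∃ n : ℕ, 0 < n ∧ powSec a n = 0 := by
  haveI : Coh.IsQCoh (Coh.structureModule X) := isQCoh_structureModule (X := X)
  obtain ⟨n, hn⟩ := exists_tmul_powSec_eq_zero (F := Coh.structureModule X) (a := a) hL (oneSec ⊤) (by
    refine AmpleLib.sec_ext _ _ _ fun x hx => absurd hx ?_
    rw [h]; exact fun h => h)
  refine ⟨n + 1, n.succ_pos, ?_⟩
  show tmul (powSec a n) a = 0
  rw [powSec_eq_zero_of_tmul a hn, tmul_zero_left]

/-- Ampleness descends along a finite surjective morphism which is an isomorphism outside a closed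
subset proper over the base. -/
theorem isAmple_of_finite_birational (q : X ⟶ Spec (CommRingCat.of R)) [LocallyOfFiniteType q] [QuasiCompact q]
    [IsReduced X] (h : X1 ⟶ X) [IsFinite h] [Surjective h] (W : X.Opens) [IsIso (h ∣_ W)]
    (hZ : ClSub.IsProperOver q ((W : Set X)ᶜ)) {L : X.Modules} (hL : PicF.IsInvertible L)
    (hA : CohB1.IsAmple ((Scheme.Modules.pullback h).obj L)) : CohB1.IsAmple L := by
  classical
  haveI : IsLocallyNoetherian X := LocallyOfFiniteType.isLocallyNoetherian q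
  haveI : CompactSpace X := QuasiCompact.compactSpace_of_compactSpace q
  haveI : IsNoetherian X := {}
  let Z : Closeds X := ⟨(W : Set X)ᶜ, W.2.isClosed_compl⟩
  -- a finite trivialising cover and a uniform power
  obtain ⟨ιc, _, U, hU, -, hcov, hgen⟩ := exists_finite_gen_cover hL (W := (⊤ : X.Opens)) isCompact_univ
  choose g hg using hgen
  choose N hN using fun i => exists_conductor_pow h W Z rfl (hU i)
  haveI := Fintype.ofFinite ιc
  let N₀ := Finset.univ.sup N + 1
  let J := Scheme.IdealSheafData.vanishingIdeal Z ^ N₀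
  let V := J.subscheme
  let ι : V ⟶ X := J.subschemeι
  have hrange : Set.range ι = (W : Set X)ᶜ := by
    show Set.range J.subschemeι = _
    rw [Scheme.IdealSheafData.range_subschemeι, show J.support = (Scheme.IdealSheafData.vanishingIdeal Z).support from
      Scheme.IdealSheafData.support_pow _ _ (Nat.succ_ne_zero _),
      Scheme.IdealSheafData.coe_support_vanishingIdeal]
    rfl
  haveI : IsProper (ι ≫ q) := Coherent.isProper_of_isProperOver q hZ ι hrange
  let Z1 := (J.comap h).subscheme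
  let k : Z1 ⟶ X1 := (J.comap h).subschemeι
  let q₁ : Z1 ⟶ V := Scheme.IdealSheafData.subschemeMap _ _ h (J.le_map_comap h)
  have comm : k ≫ h = q₁ ≫ ι := (Scheme.IdealSheafData.subschemeMap_subschemeι _ _ _ _).symm
  have hq₁ : q₁ = (J.comapIso h).hom ≫ pullback.snd h J.subschemeι := (J.comapIso_hom_snd h).symm
  haveI : IsFinite (pullback.snd h J.subschemeι) := MorphismProperty.pullback_snd _ _ ‹IsFinite h›
  haveI : Surjective (pullback.snd h J.subschemeι) := MorphismProperty.pullback_snd _ _ ‹Surjective h›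
  haveI : IsFinite q₁ := by rw [hq₁]; infer_instance
  haveI : Surjective q₁ := by rw [hq₁]; infer_instance
  haveI : IsProper ((k ≫ h) ≫ q) := by rw [comm, Category.assoc]; infer_instance
  haveI : CompactSpace Z1 := QuasiCompact.compactSpace_of_compactSpace ((k ≫ h) ≫ q)
  haveI : IsDominant h := inferInstance
  -- functions vanishing on `Z1` descend
  have hloc : ∀ x : X, ∃ U' : X.Opens, x ∈ U' ∧ IsAffineOpen U' ∧ (∃ i, U' = U i) ∧
      ∀ b : Γ(X1, h ⁻¹ᵁ U'), k.app (h ⁻¹ᵁ U') b = 0 → ∃ a : Γ(X, U'), h.app U' a = b := by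
    intro x
    obtain ⟨i, hxi⟩ := Opens.mem_iSup.1 (hcov (show x ∈ (⊤ : X.Opens) from trivial))
    refine ⟨U i, hxi, hU i, ⟨i, rfl⟩, fun b hb => ?_⟩
    have h1 : b ∈ (J.comap h).ideal ⟨h ⁻¹ᵁ U i, (hU i).preimage h⟩ := by
      rw [← (J.comap h).ker_subschemeι_app, RingHom.mem_ker]
      exact hb
    rw [ProjLib.comap_ideal_eq J h ⟨U i, hU i⟩ ⟨_, (hU i).preimage h⟩ le_rfl, Scheme.Hom.appLE_eq_app] at h1
    have h2 : ∀ y c : Γ(X1, h ⁻¹ᵁ U i), y ∈ Ideal.map (h.app (U i)).hom (J.ideal ⟨U i, hU i⟩) →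
        y * c ∈ (h.app (U i)).hom.range := by
      intro y c hy
      induction hy using Submodule.span_induction generalizing c with
      | mem y hy =>
        obtain ⟨j, hj, rfl⟩ := hy
        refine hN i j ?_ c
        exact Ideal.pow_le_pow_right ((Finset.le_sup (f := N) (Finset.mem_univ i)).trans (Nat.le_succ _)) hj
      | zero => rw [zero_mul]; exact zero_mem _
      | add a b _ _ ha hb => rw [add_mul]; exact add_mem (ha c) (hb c)
      | smul a b _ hb => rw [smul_eq_mul, mul_comm a b, mul_assoc]; exact hb _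
    obtain ⟨a, ha⟩ := h2 b 1 h1
    exact ⟨a, ha.trans (mul_one b)⟩
  have hcov' : ∀ (n : ℕ) (x : X), ∃ U' : X.Opens, x ∈ U' ∧ IsAffineOpen U' ∧
      (∃ g, IsGen (CohB1.tensorPow L n) U' g) ∧
      ∀ b : Γ(X1, h ⁻¹ᵁ U'), k.app (h ⁻¹ᵁ U') b = 0 → ∃ a : Γ(X, U'), h.app U' a = b := fun n x => by
    obtain ⟨U', hx, hU', ⟨i, rfl⟩, hb⟩ := hloc x
    exact ⟨U i, hx, hU', ⟨_, isGen_powSec (hg i) n⟩, hb⟩
  have hL1 : PicF.IsInvertible ((Scheme.Modules.pullback h).obj L) := hA.1
  haveI : CompactSpace X1 := QuasiCompact.compactSpace_of_compactSpace h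
  -- from a suitable section upstairs
  have hfinish : ∀ (n : ℕ), 0 < n → ∀ (x : X) (σ : Γ((Scheme.Modules.pullback h).obj (CohB1.tensorPow L n), ⊤))
      (t : Γ((Scheme.Modules.pullback ι).obj (CohB1.tensorPow L n), ⊤)) (y : X1), h y = x →
      y ∈ glocus _ σ → IsAffineOpen (glocus _ σ) →
      (∀ (c₁ : (Scheme.Modules.pullback (k ≫ h)).obj (CohB1.tensorPow L n) ≅ _)
        (_ : ∀ (U : X.Opens) (m : Γ(CohB1.tensorPow L n, U)) (hle : (k ≫ h) ⁻¹ᵁ U ≤ k ⁻¹ᵁ (h ⁻¹ᵁ U)),
          c₁.hom.app ((k ≫ h) ⁻¹ᵁ U) (pullSec (k ≫ h) m) = resM _ hle (pullSec k (pullSec h m)))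
        (c₂ : (Scheme.Modules.pullback (k ≫ h)).obj (CohB1.tensorPow L n) ≅ _)
        (_ : ∀ (U : X.Opens) (m : Γ(CohB1.tensorPow L n, U)) (hle : (k ≫ h) ⁻¹ᵁ U ≤ q₁ ⁻¹ᵁ (ι ⁻¹ᵁ U)),
          c₂.hom.app ((k ≫ h) ⁻¹ᵁ U) (pullSec (k ≫ h) m) = resM _ hle (pullSec q₁ (pullSec ι m))),
        c₁.inv.app ⊤ (pullSec k σ) = c₂.inv.app ⊤ (pullSec q₁ t)) →
      ∃ m, 0 < m ∧ ∃ b : Γ(CohB1.tensorPow L m, ⊤), x ∈ glocus _ b ∧ glocus _ b ≤ ⊤ ∧ IsAffineOpen (glocus _ b) := by
    intro n hn x σ t y hyx hyσ haff hst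
    have hM : PicF.IsInvertible (CohB1.tensorPow L n) := isInvertible_tensorPow hL n
    obtain ⟨c₁, hc₁⟩ := RelVALib.exists_compIso k h (k ≫ h) rfl (CohB1.tensorPow L n)
    obtain ⟨c₂, hc₂⟩ := RelVALib.exists_compIso q₁ ι (k ≫ h) comm.symm (CohB1.tensorPow L n)
    obtain ⟨s, hs⟩ := exists_descend_section h ι k q₁ comm hM (hcov' n) σ t c₁ hc₁ c₂ hc₂ (hst c₁ hc₁ c₂ hc₂)
    have hpre : glocus _ σ = h ⁻¹ᵁ glocus _ s := by rw [← hs, glocus_pullSec h hM]
    refine ⟨n, hn, s, ?_, le_top, ?_⟩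
    · rw [← hyx]
      exact hpre.le hyσ
    · let G := glocus _ s
      haveI : IsAffine (h ⁻¹ᵁ G).toScheme := hpre ▸ haff
      haveI : IsFinite (h ∣_ G) := MorphismProperty.of_isPullback (isPullback_morphismRestrict h G).flip ‹IsFinite h›
      haveI : Surjective (h ∣_ G) := MorphismProperty.of_isPullback (isPullback_morphismRestrict h G).flip ‹Surjective h›
      haveI : CompactSpace G.toScheme := isCompact_iff_compactSpace.1 (NoetherianSpace.isCompact (G : Set X))
      exact FlatMorWeight.isAffine_of_finite_surjective (h ∣_ G)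
  refine isAmple_iff_affGlocus.2 ⟨hL, inferInstance, fun x => ?_⟩
  obtain ⟨y, hy⟩ := h.surjective x
  by_cases hxW : x ∈ W
  · -- points of the isomorphism locus
    obtain ⟨n, hn, b, hyb, hbW, hb⟩ := affGlocus_of_mem hA (U := h ⁻¹ᵁ W) (x := y) (show h y ∈ W from hy.symm ▸ hxW)
    let P := CohB1.tensorPow L n
    have hP : PicF.IsInvertible P := isInvertible_tensorPow hL n
    obtain ⟨e₁, -⟩ := exists_pullPowIso h hL n
    let b₁ : Γ((Scheme.Modules.pullback h).obj P, ⊤) := e₁.inv.app ⊤ b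
    have hb₁ : glocus _ b₁ = glocus _ b := glocus_map_iso e₁.symm b
    have hP1 := PicLoc.isInvertible_pullback h hP
    let a := pullSec k b₁
    have ha : glocus _ a = ⊥ := by
      refine eq_bot_iff.2 fun z hz => ?_
      rw [glocus_pullSec k hP1, hb₁] at hz
      have h1 : h (k z) ∈ W := hbW hz
      have h2 : h (k z) ∈ Set.range ι := ⟨q₁ z, by rw [← Scheme.Hom.comp_apply, ← comm]; rfl⟩
      rw [hrange] at h2
      exact h2 h1
    obtain ⟨e, he0, hae⟩ := exists_powSec_eq_zero (PicLoc.isInvertible_pullback k hP1) a ha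
    obtain ⟨e₂, -⟩ := exists_pullPowIso h hP e
    obtain ⟨e₃, he₃⟩ := exists_pullPowIso k hP1 e
    obtain ⟨e₄, -⟩ := exists_powPowIso hL n e
    let φ : CohB1.tensorPow ((Scheme.Modules.pullback h).obj P) e ≅
        (Scheme.Modules.pullback h).obj (CohB1.tensorPow L (n * e)) :=
      e₂.symm ≪≫ (Scheme.Modules.pullback h).mapIso e₄
    have hk0 : pullSec k (powSec b₁ e) = 0 := by
      refine app_injective_of_mono e₃.hom ⊤ ?_
      refine (he₃ ⊤ b₁).trans (hae.trans ?_)
      exact (map_zero _).symm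
    refine hfinish (n * e) (Nat.mul_pos hn he0) x (φ.hom.app ⊤ (powSec b₁ e)) 0 y hy ?_ ?_ fun c₁ _ c₂ _ => ?_
    · rw [glocus_map_iso]
      obtain ⟨j, rfl⟩ : ∃ j, e = j + 1 := ⟨e - 1, by omega⟩
      rw [glocus_powSec hP1, hb₁]
      exact hyb
    · rw [glocus_map_iso]
      obtain ⟨j, rfl⟩ : ∃ j, e = j + 1 := ⟨e - 1, by omega⟩
      rw [glocus_powSec hP1, hb₁]
      exact hb
    · rw [← pullback_map_app_pullSec k φ.hom]
      have hq0 : pullSec q₁ (U := (⊤ : V.Opens)) (0 : Γ((Scheme.Modules.pullback ι).obj (CohB1.tensorPow L (n * e)), ⊤)) = 0 :=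
        map_zero _
      rw [hk0, hq0, map_zero]
      exact (app_zero' c₁.inv _).trans (app_zero' c₂.inv _).symm
  · -- points of the proper subset
    have hxV : x ∈ Set.range ι := hrange.ge hxW
    obtain ⟨xb, hxb⟩ := hxV
    obtain ⟨z, hz⟩ := q₁.surjective xb
    obtain ⟨m, Xb, j, p, Lb, hm, hj, hp, hjp, hLb, ⟨eL⟩⟩ := exists_ample_compactification (h ≫ q) hA
    haveI := hj
    haveI := hp
    have hkp : IsProper ((k ≫ j) ≫ p) := by
      rw [Category.assoc, hjp, ← Category.assoc]; infer_instance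
    haveI : IsProper (k ≫ j) := IsProper.of_comp (k ≫ j) p
    haveI : IsClosedImmersion (k ≫ j) :=
      IsClosedImmersion.of_isPreimmersion _ (k ≫ j).isClosedMap.isClosed_range
    obtain ⟨N₁, hN₁, hlift⟩ := eventually_exists_section p hLb j k
    have hAV : CohB1.IsAmple ((Scheme.Modules.pullback ι).obj L) := by
      refine isAmple_of_finite_surjective_proper (ι ≫ q) q₁ (PicLoc.isInvertible_pullback ι hL) ?_
      refine (isAmple_pullback_comp_iff q₁ ι).2 (isAmple_pullback_congr comm ?_)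
      exact (isAmple_pullback_comp_iff k h).1 (isAmple_pullback_of_isAffineHom k hA)
    obtain ⟨n₀, hn₀, b₀, hxb₀, -, -⟩ := (isAmple_iff_affGlocus.1 hAV).2.2 xb
    let K := n₀ * N₁
    have hK : n₀ * (N₁ * m) = m * K := by ring
    obtain ⟨b', hb'⟩ : ∃ b' : Γ(CohB1.tensorPow ((Scheme.Modules.pullback ι).obj L) (m * K), ⊤),
        xb ∈ glocus _ b' := by
      obtain ⟨b, hb⟩ := exists_glocus_pow hAV.1 n₀ b₀ (N₁ * m) (Nat.mul_pos hN₁ hm)
      rw [← hK]
      exact ⟨b, hb.ge hxb₀⟩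
    obtain ⟨e₁, -⟩ := exists_pullPowIso ι hL (m * K)
    let t : Γ((Scheme.Modules.pullback ι).obj (CohB1.tensorPow L (m * K)), ⊤) := e₁.inv.app ⊤ b'
    obtain ⟨c₁, hc₁⟩ := RelVALib.exists_compIso k h (k ≫ h) rfl (CohB1.tensorPow L (m * K))
    obtain ⟨c₂, hc₂⟩ := RelVALib.exists_compIso q₁ ι (k ≫ h) comm.symm (CohB1.tensorPow L (m * K))
    let τ : Γ((Scheme.Modules.pullback k).obj ((Scheme.Modules.pullback h).obj (CohB1.tensorPow L (m * K))), ⊤) :=
      c₁.hom.app ⊤ (c₂.inv.app ⊤ (pullSec q₁ t))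
    obtain ⟨e₂, -⟩ := exists_pullPowIso h hL (m * K)
    obtain ⟨e₃, -⟩ := exists_powPowIso hL1 m K
    obtain ⟨e₄, -⟩ := exists_pullPowIso j hLb.1 K
    obtain ⟨σ, hσ, hσaff⟩ := hlift K (le_mul_of_one_le_left (Nat.zero_le _) hn₀) _
      (e₂ ≪≫ e₃.symm ≪≫ powIsoOfIso eL K ≪≫ e₄.symm) τ
    refine hfinish (m * K) (Nat.mul_pos hm (Nat.mul_pos hn₀ hN₁)) x σ t (k z) ?_ ?_ hσaff fun d₁ hd₁ d₂ hd₂ => ?_
    · rw [← Scheme.Hom.comp_apply, comm, Scheme.Hom.comp_apply, hz, hxb]
    · have h1 : z ∈ glocus _ τ := by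
        show z ∈ glocus _ (c₁.hom.app ⊤ (c₂.inv.app ⊤ (pullSec q₁ t)))
        rw [glocus_map_iso]
        show z ∈ glocus _ (c₂.symm.hom.app ⊤ (pullSec q₁ t))
        rw [glocus_map_iso, glocus_pullSec q₁ (PicLoc.isInvertible_pullback ι (isInvertible_tensorPow hL _))]
        show q₁ z ∈ glocus _ (e₁.symm.hom.app ⊤ b')
        rw [glocus_map_iso, hz]
        exact hb'
      rw [← hσ, glocus_pullSec k (PicLoc.isInvertible_pullback h (isInvertible_tensorPow hL _))] at h1
      exact h1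
    · have e : d₁ = c₁ := by
        refine Iso.ext (RelVALib.hom_ext_pullSec _ _ _ fun U _ m => ?_)
        exact (hd₁ U m le_rfl).trans (hc₁ U m le_rfl).symm
      have e' : d₂ = c₂ := by
        refine Iso.ext (RelVALib.hom_ext_pullSec _ _ _ fun U _ m => ?_)
        exact (hd₂ U m (by rw [← Scheme.Hom.comp_preimage, comm])).trans
          (hc₂ U m (by rw [← Scheme.Hom.comp_preimage, comm])).symm
      rw [e, e', hσ]
      show (c₁.hom ≫ c₁.inv).app ⊤ _ = _
      rw [c₁.hom_inv_id]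
      rfl

end Groth.Agent.EGA3Amp7
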