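import Groth.Agent.EGA3Amp7.Global
import Groth.Agent.EGA43.Multisection.AffineDescent
import Groth.Agent.RelVALib.AffineProj

/-!
# Relative ampleness descends along universally open surjective morphisms
-/

set_option autoImplicit false
set_option linter.style.haveILetI false
set_option backward.isDefEq.respectTransparency.types false
set_option maxHeartbeats 1000000

universe u

open CategoryTheory CategoryTheory.Limits AlgebraicGeometry TopologicalSpace Opposite
open Groth.Agent.Coherent Groth.Agent.PicLib Groth.Agent.AmpleLib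

namespace Groth.Agent.EGA3Amp7

/-- Relative ampleness transports along pullback squares over the same cospan. -/
theorem isRelAmple_of_isPullback {X Y T P Q : Scheme.{u}} {f : X ⟶ Y} {t : T ⟶ Y} {a : P ⟶ X} {b : P ⟶ T}
    {a' : Q ⟶ X} {b' : Q ⟶ T} (hP : IsPullback a b f t) (hQ : IsPullback a' b' f t) {L : X.Modules}
    (hL : PicF.IsInvertible L) (h : RelAmple.IsRelAmple b ((Scheme.Modules.pullback a).obj L)) :
    RelAmple.IsRelAmple b' ((Scheme.Modules.pullback a').obj L) := by
  have aux : ∀ e : Q ≅ P, RelAmple.IsRelAmple (e.hom ≫ b) ((Scheme.Modules.pullback (e.hom ≫ a)).obj L) := by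
    intro e
    have hq : QuasiCompact b := h.1
    have h' := (isRelAmple_iff b).1 h
    refine isRelAmple_of_affine_cover (e.hom ≫ b) (PicLoc.isInvertible_pullback _ hL) fun y => ?_
    obtain ⟨V, hV, hy, -⟩ := exists_isAffineOpen_mem_and_subset (x := y) (U := ⊤) trivial
    refine ⟨⟨V, hV⟩, hy, ?_⟩
    have h1 := isAmple_pullback_of_isAffineHom (e.hom ∣_ (b ⁻¹ᵁ V)) (h'.2 ⟨V, hV⟩)
    rw [isAmple_pullback_comp_iff, isAmple_pullback_comp_iff] at h1
    refine (isAmple_pullback_comp_iff _ _).2 (isAmple_pullback_congr ?_ h1)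
    rw [morphismRestrict_ι, Category.assoc]
    rfl
  have h2 := aux (hQ.isoIsPullback _ _ hP)
  rwa [IsPullback.isoIsPullback_hom_snd, IsPullback.isoIsPullback_hom_fst] at h2

/-- EGA IV: relative ampleness descends along universally open surjective morphisms. -/
theorem isRelAmple_of_universallyOpen {X Y Y' : Scheme.{u}} [IsLocallyNoetherian Y] (f : X ⟶ Y)
    [LocallyOfFiniteType f] (g : Y' ⟶ Y) [LocallyOfFiniteType g] [UniversallyOpen g] [Surjective g]
    {L : X.Modules} (hL : PicF.IsInvertible L) {Z : Set X} (hZ : ClSub.IsProperOver f Z)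
    (hnor : ∀ x ∉ Z, IsDomain (X.presheaf.stalk x) ∧ IsIntegrallyClosed (X.presheaf.stalk x))
    (h : RelAmple.IsRelAmple (pullback.snd f g) ((Scheme.Modules.pullback (pullback.fst f g)).obj L)) :
    RelAmple.IsRelAmple f L := by
  have hmain : ∀ V : Y.affineOpens, CompactSpace (f ⁻¹ᵁ V.1).toScheme ∧
      CohB1.IsAmple ((Scheme.Modules.pullback (f ⁻¹ᵁ V.1).ι).obj L) := by
    rintro ⟨V, hV⟩
    haveI : IsAffine V.toScheme := hV
    haveI : AlgebraicGeometry.IsNoetherian V.toScheme := ⟨⟩
    haveI : LocallyOfFiniteType (g ∣_ V) :=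
      MorphismProperty.of_isPullback (isPullback_morphismRestrict g V).flip ‹LocallyOfFiniteType g›
    haveI : UniversallyOpen (g ∣_ V) :=
      MorphismProperty.of_isPullback (isPullback_morphismRestrict g V).flip ‹UniversallyOpen g›
    haveI : Surjective (g ∣_ V) :=
      MorphismProperty.of_isPullback (isPullback_morphismRestrict g V).flip ‹Surjective g›
    obtain ⟨T, c, hc, hs, hl⟩ := EGA43.Multisection.exists_finite_surjective_lifts (g ∣_ V)
    haveI := hc
    haveI := hs
    haveI : IsAffine T := isAffine_of_isAffineHom c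
    let φ : T ⟶ Y := c ≫ V.ι
    choose U hU s hsg using hl
    have hcov : ⨆ z, U z = ⊤ := top_le_iff.1 fun z _ => Opens.mem_iSup.2 ⟨z, hU z⟩
    have hP : ∀ z, RelAmple.IsRelAmple (pullback.snd f φ ∣_ U z)
        ((Scheme.Modules.pullback ((pullback.snd f φ ⁻¹ᵁ U z).ι ≫ pullback.fst f φ)).obj L) := by
      intro z
      let σ := s z ≫ (g ⁻¹ᵁ V).ι
      have hσ : σ ≫ g = (U z).ι ≫ φ := by
        rw [Category.assoc, ← morphismRestrict_ι, ← Category.assoc, hsg z, Category.assoc]
      haveI : QuasiCompact (pullback.snd f g) := h.1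
      have h1 := isRelAmple_baseChange (pullback.snd f g) σ h
      have hsq := (IsPullback.of_hasPullback (pullback.snd f g) σ).paste_horiz (IsPullback.of_hasPullback f g)
      rw [hσ] at hsq
      have h2 : IsPullback ((pullback.snd f φ ⁻¹ᵁ U z).ι ≫ pullback.fst f φ) (pullback.snd f φ ∣_ U z) f
          ((U z).ι ≫ φ) :=
        (isPullback_morphismRestrict (pullback.snd f φ) (U z)).flip.paste_horiz (IsPullback.of_hasPullback f φ)
      refine isRelAmple_of_isPullback hsq h2 hL ?_
      rw [isRelAmple_iff] at h1 ⊢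
      exact ⟨h1.1, fun W => isAmple_of_iso
        ((Scheme.Modules.pullback _).mapIso ((Scheme.Modules.pullbackComp _ _).app L)) (h1.2 W)⟩
    haveI : QuasiCompact (pullback.snd f φ) :=
      IsZariskiLocalAtTarget.of_iSup_eq_top (P := @QuasiCompact) U hcov fun z => (hP z).1
    have hLφ : RelAmple.IsRelAmple (pullback.snd f φ) ((Scheme.Modules.pullback (pullback.fst f φ)).obj L) := by
      refine (isRelAmple_iff_of_openCover (f := pullback.snd f φ) U hcov).2 fun z => ?_
      have := hP z
      rw [isRelAmple_iff] at this ⊢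
      exact ⟨this.1, fun W => isAmple_of_iso
        ((Scheme.Modules.pullback _).mapIso ((Scheme.Modules.pullbackComp _ _).app L).symm) (this.2 W)⟩
    have hA := RelVALib.isAmple_of_isRelAmple_of_isAffine (pullback.snd f φ) hLφ
    let P := f ⁻¹ᵁ V
    let k : pullback f φ ⟶ P.toScheme := IsOpenImmersion.lift P.ι (pullback.fst f φ) (by
      rw [Scheme.Opens.range_ι]
      rintro _ ⟨w, rfl⟩
      show f (pullback.fst f φ w) ∈ V
      rw [← Scheme.Hom.comp_apply, pullback.condition, ← Category.assoc, Scheme.Hom.comp_apply]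
      exact ((pullback.snd f φ ≫ c) w).2)
    have hk : IsPullback k (pullback.snd f φ) (f ∣_ V) c := by
      refine IsPullback.of_right ?_ ?_ (isPullback_morphismRestrict f V).flip
      · simp only [k, P, IsOpenImmersion.lift_fac]
        exact IsPullback.of_hasPullback f φ
      · rw [← cancel_mono V.ι]
        simp [k, P, φ, pullback.condition]
    haveI : IsFinite k := MorphismProperty.of_isPullback hk.flip hc
    haveI : Surjective k := MorphismProperty.of_isPullback hk.flip hs
    haveI : CompactSpace (pullback f φ : Scheme.{u}) := QuasiCompact.compactSpace_of_compactSpace (pullback.snd f φ)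
    haveI hcP : CompactSpace P.toScheme := k.surjective.compactSpace k.continuous
    refine ⟨hcP, ?_⟩
    haveI : IsNoetherianRing Γ(Y, V) := IsLocallyNoetherian.component_noetherian ⟨V, hV⟩
    let e : V.toScheme ⟶ Spec Γ(Y, V) := hV.isoSpec.hom
    let q : P.toScheme ⟶ Spec (CommRingCat.of Γ(Y, V)) := (f ∣_ V) ≫ e
    haveI : LocallyOfFiniteType (f ∣_ V) :=
      MorphismProperty.of_isPullback (isPullback_morphismRestrict f V).flip ‹LocallyOfFiniteType f›
    haveI : QuasiCompact (f ∣_ V) :=
      (quasiCompact_iff_compactSpace (f ∣_ V)).2 hcP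
    haveI : LocallyOfFiniteType q := inferInstanceAs (LocallyOfFiniteType ((f ∣_ V) ≫ e))
    haveI : QuasiCompact q := inferInstanceAs (QuasiCompact ((f ∣_ V) ≫ e))
    refine isAmple_of_goodAt q k (PicLoc.isInvertible_pullback _ hL) (isProperOver_restrict f V hZ e)
      (fun x hx => Or.inl ?_) ?_
    · obtain ⟨hd, hn⟩ := hnor (P.ι x) hx
      let r := RingEquiv.ofBijective (P.ι.stalkMap x).hom (ConcreteCategory.bijective_of_isIso _)
      exact ⟨r.symm.toMulEquiv.isDomain, IsIntegrallyClosed.of_equiv r⟩
    · exact (isAmple_pullback_comp_iff k P.ι).2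
        (isAmple_pullback_congr (IsOpenImmersion.lift_fac _ _ _).symm hA)
  haveI : QuasiCompact f := (quasiCompact_iff_forall_isAffineOpen (f := f)).2 fun V hV =>
    isCompact_iff_compactSpace.2 (hmain ⟨V, hV⟩).1
  exact (isRelAmple_iff f).2 ⟨inferInstance, fun V => (hmain V).2⟩

end Groth.Agent.EGA3Amp7
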